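import Groth.Agent.H4Goren.DoubleAnn
import Groth.Agent.H4LC.GorQuotient
import Groth.Agent.H02CA.GorRing
import Mathlib.RingTheory.Regular.Flat
import Mathlib.RingTheory.Localization.Ideal

/-!
# Embedding modules killed by a prime into the quotient ring
-/

set_option autoImplicit false
set_option linter.style.haveILetI false

universe u

open IsLocalRing RingTheory.Sequence

namespace Groth.Agent.H4CanonIdeal

variable {B : Type u} [CommRing B]

/-- Two elements of a zero-dimensional Gorenstein ring killed by the maximal ideal are dependent. -/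
theorem exists_dependence_socle {C : Type u} [CommRing C] [LocCoh.IsGorensteinLocalRing C]
    (h0 : ringKrullDim C ≤ 0) {v u : C} (hv0 : v ≠ 0) (hu : ∀ r ∈ maximalIdeal C, r * u = 0) :
    ∃ c : C, c * v = u := by
  refine Ideal.mem_span_singleton'.1 (H4Goren.mem_of_kills_annihilator (H4Goren.baer_self_of_dim_zero C h0)
    ⟨{v}, by simp⟩ fun r hr => ?_)
  rw [mul_comm]
  exact hu r ((mem_maximalIdeal r).2 fun hun => hv0
    (hun.mul_right_eq_zero.1 (hr v (Ideal.mem_span_singleton_self v))))

/-- At a minimal prime of a complete intersection ideal, the elements killed by the prime are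
dependent. -/
theorem exists_dependence [LocCoh.IsGorensteinLocalRing B] {p : Ideal B} [p.IsPrime] (rs : List B)
    (hp : p ∈ (Ideal.ofList rs).minimalPrimes) (hreg : IsWeaklyRegular B rs) {v u : B}
    (hv : ∀ t ∉ p, t * v ∉ Ideal.ofList rs)
    (hu : ∀ b ∈ p, b * u ∈ Ideal.ofList rs) :
    ∃ a ∉ p, ∃ b : B, a * u - b * v ∈ Ideal.ofList rs := by
  let L := Localization.AtPrime p
  haveI hL : LocCoh.IsGorensteinLocalRing L := H4LC.isGorensteinLocalRing_localization B p
  let I := Ideal.ofList rs
  let ls := rs.map (algebraMap B L)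
  have hIL : Ideal.ofList ls = I.map (algebraMap B L) := (Ideal.map_ofList _ _).symm
  have hmem : ∀ r ∈ ls, r ∈ maximalIdeal L := by
    intro r hr
    obtain ⟨b, hb, rfl⟩ := List.mem_map.1 hr
    exact (IsLocalization.AtPrime.to_map_mem_maximal_iff L p b).2
      (hp.1.2 (Ideal.subset_span hb))
  have hG : LocCoh.IsGorensteinLocalRing (L ⧸ Ideal.ofList ls) :=
    H02CA.GorFlat.gor_quot_list hL ls hmem (hreg.of_flat (S := L))
  let C := L ⧸ Ideal.ofList ls
  haveI : LocCoh.IsGorensteinLocalRing C := hG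
  let π : L →+* C := Ideal.Quotient.mk _
  have hπ : Function.Surjective π := Ideal.Quotient.mk_surjective
  have hmax : (maximalIdeal L).map π = maximalIdeal C :=
    IsLocalRing.map_maximalIdeal_of_surjective π hπ
  have h0 : ringKrullDim C ≤ 0 := by
    refine Ring.krullDimLE_iff.1 (Ring.krullDimLE_zero_iff.2 fun P hP => ?_)
    have hle : Ideal.ofList ls ≤ P.comap π := fun x hx => by
      rw [Ideal.mem_comap, show π x = 0 from Ideal.Quotient.eq_zero_iff_mem.2 hx]
      exact P.zero_mem
    have hP' : P.comap π ≤ maximalIdeal L := le_maximalIdeal (Ideal.IsPrime.comap π).ne_top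
    have hq : ((P.comap π).comap (algebraMap B L)) = p := by
      refine le_antisymm (fun x hx => (IsLocalization.AtPrime.to_map_mem_maximal_iff L p x).1 (hP' hx)) ?_
      exact hp.2 ⟨Ideal.IsPrime.comap _, Ideal.map_le_iff_le_comap.1 (hIL ▸ hle)⟩
        fun x hx => (IsLocalization.AtPrime.to_map_mem_maximal_iff L p x).1 (hP' hx)
    have hPm : P.comap π = maximalIdeal L := by
      rw [← IsLocalization.map_under p.primeCompl L (P.comap π)]
      exact (congrArg (Ideal.map (algebraMap B L)) hq).trans Localization.AtPrime.map_eq_maximalIdeal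
    have : P = maximalIdeal C := by
      rw [← hmax, ← hPm, Ideal.map_comap_of_surjective π hπ]
    rw [this]
    infer_instance
  have hzero : ∀ x : B, π (algebraMap B L x) = 0 ↔ ∃ t ∉ p, t * x ∈ I := by
    intro x
    rw [Ideal.Quotient.eq_zero_iff_mem, hIL, IsLocalization.algebraMap_mem_map_algebraMap_iff p.primeCompl L]
    exact ⟨fun ⟨t, ht, h⟩ => ⟨t, ht, h⟩, fun ⟨t, ht, h⟩ => ⟨t, ht, h⟩⟩
  obtain ⟨c, hc⟩ := exists_dependence_socle h0 (v := π (algebraMap B L v)) (u := π (algebraMap B L u))
    (fun h => by obtain ⟨t, ht, h⟩ := (hzero v).1 h; exact hv t ht h)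
    (fun r hr => by
      rw [← hmax] at hr
      obtain ⟨r, hrm, rfl⟩ := (Ideal.mem_map_iff_of_surjective π hπ).1 hr
      obtain ⟨⟨c, s⟩, hcs⟩ := IsLocalization.surj p.primeCompl r
      dsimp only at hcs
      have hcp : c ∈ p := (IsLocalization.AtPrime.to_map_mem_maximal_iff L p c).1
        (hcs ▸ Ideal.mul_mem_right _ _ hrm)
      have h1 : π (algebraMap B L (s : B)) * (π r * π (algebraMap B L u)) = 0 := by
        rw [← map_mul, ← map_mul, ← mul_assoc, mul_comm _ r, hcs, ← map_mul]
        exact (hzero _).2 ⟨1, fun h => (Ideal.IsPrime.ne_top ‹_›) ((Ideal.eq_top_iff_one p).2 h),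
          by rw [one_mul]; exact hu c hcp⟩
      exact ((IsLocalization.map_units L s).map π).mul_right_eq_zero.1 h1)
  obtain ⟨c, rfl⟩ := hπ c
  obtain ⟨⟨b, s⟩, hbs⟩ := IsLocalization.surj p.primeCompl c
  dsimp only at hbs
  have h1 : π (algebraMap B L ((s : B) * u - b * v)) = 0 := by
    rw [map_sub, map_mul, map_mul, ← hbs, map_sub, map_mul, map_mul, map_mul, ← hc]
    ring
  obtain ⟨t, ht, h⟩ := (hzero _).1 h1
  refine ⟨t * s, fun h' => (Ideal.IsPrime.mem_or_mem ‹_› h').elim ht s.2, t * b, ?_⟩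
  rwa [mul_sub, ← mul_assoc, ← mul_assoc] at h

/-- A torsion-free module of rank one over `B/p` embeds into `B/p`. -/
theorem exists_injective_to_quotient (p : Ideal B) [p.IsPrime] {ω : Type u} [AddCommGroup ω]
    [Module B ω] [Module.Finite B ω] (hp : ∀ b ∈ p, ∀ x : ω, b • x = 0)
    (htf : ∀ a ∉ p, ∀ x : ω, a • x = 0 → x = 0) {v : ω} (hv : v ≠ 0)
    (hdep : ∀ u : ω, ∃ a ∉ p, ∃ b : B, a • u = b • v) :
    ∃ φ : ω →ₗ[B] B ⧸ p, Function.Injective φ := by
  classical
  obtain ⟨G, hG⟩ := Module.Finite.fg_top (R := B) (M := ω)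
  choose a ha b hb using hdep
  let A : B := ∏ x ∈ G, a x
  have hA : A ∉ p := fun h => by
    obtain ⟨x, -, hx⟩ := (Ideal.IsPrime.prod_mem_iff (s := G) (p := p)).1 h
    exact ha x hx
  let g : (B ⧸ p) →ₗ[B] ω := p.liftQ (LinearMap.toSpanSingleton B ω v)
    (fun c hc => LinearMap.mem_ker.2 (hp c hc v))
  have hg : Function.Injective g := by
    refine (injective_iff_map_eq_zero g).2 fun z hz => ?_
    obtain ⟨c, rfl⟩ := Submodule.Quotient.mk_surjective _ z
    exact (Submodule.Quotient.mk_eq_zero _).2 (by_contra fun hc => hv (htf c hc v hz))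
  have hle : (⊤ : Submodule B ω) ≤ (LinearMap.range g).comap (A • LinearMap.id) := by
    rw [← hG, Submodule.span_le]
    intro x hx
    refine ⟨Submodule.Quotient.mk ((∏ y ∈ G.erase x, a y) * b x), ?_⟩
    show ((∏ y ∈ G.erase x, a y) * b x) • v = A • x
    rw [mul_smul, ← hb x, smul_smul, Finset.prod_erase_mul G a hx]
  let h : ω →ₗ[B] LinearMap.range g :=
    (A • LinearMap.id).codRestrict _ fun x => hle (Submodule.mem_top (x := x))
  refine ⟨(LinearEquiv.ofInjective g hg).symm.toLinearMap ∘ₗ h,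
    (LinearEquiv.ofInjective g hg).symm.injective.comp ((injective_iff_map_eq_zero h).2 fun x hx => ?_)⟩
  exact htf A hA x (congrArg Subtype.val hx)

end Groth.Agent.H4CanonIdeal
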